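import Cfsg.Agent.Lib.H35.FiClass23Chk
import Cfsg.Agent.Lib.H94.F23.Words
set_option autoImplicit false
set_option maxRecDepth 100000
set_option linter.all false
set_option Elab.async false
namespace H94.F23
open H35.TC H35.Net
/-- last commutator word -/
def w9 : List X := [.n9, .f, .d, .e, .c, .d, .h, .i, .b, .c, .d, .h, .f, .e, .d, .c, .b, .a, .b, .c, .d, .e, .f, .h, .d, .c, .b, .i, .h, .d, .c, .e, .d, .f, .j, .g, .f, .e, .d, .h, .i, .d, .e, .c, .d, .h, .f, .e, .d, .c, .b, .c, .d, .e, .f, .h, .d, .c, .e, .d, .i, .h, .d, .e, .f, .g, .j, .n9, .j, .g, .f, .e, .d, .h, .i, .d, .e, .c, .d, .h, .f, .e, .d, .c, .b, .c, .d, .e, .f, .h, .d, .c, .e, .d, .i, .h, .d, .e, .f, .g, .j, .f, .d, .e, .c, .d, .h, .i, .b, .c, .d, .h, .f, .e, .d, .c, .b, .a, .b, .c, .d, .e, .f, .h, .d, .c, .b, .i, .h, .d, .c, .e, .d, .f, .p9, .f, .d, .e, .c, .d, .h, .i, .b, .c, .d, .h, .f, .e, .d, .c, .b, .a, .b, .c, .d, .e, .f, .h, .d, .c, .b, .i, .h, .d, .c, .e, .d, .f,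 .j, .g, .f, .e, .d, .h, .i, .d, .e, .c, .d, .h, .f, .e, .d, .c, .b, .c, .d, .e, .f, .h, .d, .c, .e, .d, .i, .h, .d, .e, .f, .g, .j, .p9, .j, .g, .f, .e, .d, .h, .i, .d, .e, .c, .d, .h, .f, .e, .d, .c, .b, .c, .d, .e, .f, .h, .d, .c, .e, .d, .i, .h, .d, .e, .f, .g, .j, .f, .d, .e, .c, .d, .h, .i, .b, .c, .d, .h, .f, .e, .d, .c, .b, .a, .b, .c, .d, .e, .f, .h, .d, .c, .b, .i, .h, .d, .c, .e, .d, .f]
theorem k_p1259 : Nat.beq (appF net c_1259 (Nat.shiftLeft 1 1259)) (Nat.shiftLeft 1 8004) = true := by decide +kernel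
theorem k_p1368 : Nat.beq (appF net c_1368 (Nat.shiftLeft 1 1368)) (Nat.shiftLeft 1 8004) = true := by decide +kernel
theorem k_p1396 : Nat.beq (appF net c_1396 (Nat.shiftLeft 1 1396)) (Nat.shiftLeft 1 11589) = true := by decide +kernel
theorem k_p3011 : Nat.beq (appF net c_3011 (Nat.shiftLeft 1 3011)) (Nat.shiftLeft 1 11589) = true := by decide +kernel
theorem k_p3186 : Nat.beq (appF net c_3186 (Nat.shiftLeft 1 3186)) (Nat.shiftLeft 1 8004) = true := by decide +kernel
theorem k_p3359 : Nat.beq (appF net c_3359 (Nat.shiftLeft 1 3359)) (Nat.shiftLeft 1 11589) = true := by decide +kernel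
theorem k_p3758 : Nat.beq (appF net c_3758 (Nat.shiftLeft 1 3758)) (Nat.shiftLeft 1 11589) = true := by decide +kernel
theorem k_p4140 : Nat.beq (appF net c_4140 (Nat.shiftLeft 1 4140)) (Nat.shiftLeft 1 8004) = true := by decide +kernel
theorem k_p4243 : Nat.beq (appF net c_4243 (Nat.shiftLeft 1 4243)) (Nat.shiftLeft 1 11589) = true := by decide +kernel
theorem k_p4861 : Nat.beq (appF net c_4861 (Nat.shiftLeft 1 4861)) (Nat.shiftLeft 1 11589) = true := by decide +kernel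
theorem k_p5324 : Nat.beq (appF net c_5324 (Nat.shiftLeft 1 5324)) (Nat.shiftLeft 1 11589) = true := by decide +kernel
theorem k_p6299 : Nat.beq (appF net c_6299 (Nat.shiftLeft 1 6299)) (Nat.shiftLeft 1 11589) = true := by decide +kernel
theorem k_p6711 : Nat.beq (appF net c_6711 (Nat.shiftLeft 1 6711)) (Nat.shiftLeft 1 11589) = true := by decide +kernel
theorem k_p7424 : Nat.beq (appF net c_7424 (Nat.shiftLeft 1 7424)) (Nat.shiftLeft 1 11589) = true := by decide +kernel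
theorem k_p8181 : Nat.beq (appF net c_8181 (Nat.shiftLeft 1 8181)) (Nat.shiftLeft 1 11589) = true := by decide +kernel
theorem k_p9792 : Nat.beq (appF net c_9792 (Nat.shiftLeft 1 9792)) (Nat.shiftLeft 1 11589) = true := by decide +kernel
theorem k_p9795 : Nat.beq (appF net c_9795 (Nat.shiftLeft 1 9795)) (Nat.shiftLeft 1 11589) = true := by decide +kernel
theorem k_p10154 : Nat.beq (appF net c_10154 (Nat.shiftLeft 1 10154)) (Nat.shiftLeft 1 11589) = true := by decide +kernel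
theorem k_p11099 : Nat.beq (appF net c_11099 (Nat.shiftLeft 1 11099)) (Nat.shiftLeft 1 11589) = true := by decide +kernel
theorem k_p11422 : Nat.beq (appF net c_11422 (Nat.shiftLeft 1 11422)) (Nat.shiftLeft 1 11589) = true := by decide +kernel
theorem k_p12285 : Nat.beq (appF net c_12285 (Nat.shiftLeft 1 12285)) (Nat.shiftLeft 1 11589) = true := by decide +kernel
theorem k_p14574 : Nat.beq (appF net c_14574 (Nat.shiftLeft 1 14574)) (Nat.shiftLeft 1 11589) = true := by decide +kernel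
theorem k_p18780 : Nat.beq (appF net c_18780 (Nat.shiftLeft 1 18780)) (Nat.shiftLeft 1 11589) = true := by decide +kernel
theorem k_p20105 : Nat.beq (appF net c_20105 (Nat.shiftLeft 1 20105)) (Nat.shiftLeft 1 11589) = true := by decide +kernel
theorem k_p703 : Nat.beq (appF net c_703 (Nat.shiftLeft 1 703)) (Nat.shiftLeft 1 8004) = true := by decide +kernel
theorem k_p297 : Nat.beq (appF net c_297 (Nat.shiftLeft 1 297)) (Nat.shiftLeft 1 8004) = true := by decide +kernel
theorem k_p210 : Nat.beq (appF net c_210 (Nat.shiftLeft 1 210)) (Nat.shiftLeft 1 8004) = true := by decide +kernel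
theorem k_p3846 : Nat.beq (appF net c_3846 (Nat.shiftLeft 1 3846)) (Nat.shiftLeft 1 11589) = true := by decide +kernel
theorem k_p107 : Nat.beq (appF net c_107 (Nat.shiftLeft 1 107)) (Nat.shiftLeft 1 8003) = true := by decide +kernel
theorem k_p1 : Nat.beq (appF net c_1 (Nat.shiftLeft 1 1)) (Nat.shiftLeft 1 8004) = true := by decide +kernel
theorem k_p3560 : Nat.beq (appF net c_3560 (Nat.shiftLeft 1 3560)) (Nat.shiftLeft 1 11589) = true := by decide +kernel
theorem k_orM24 : Nat.beq (Nat.lor (Nat.lor (Nat.lor (Nat.lor (Nat.lor (Nat.lor (Nat.lor (Nat.lor (Nat.lor (Nat.lor (Nat.lor (Nat.lor (Nat.lor (Nat.lor (Nat.lor (Nat.lor (Nat.lor (Nat.lor (Nat.lor (Nat.lor (Nat.lor (Nat.lor (Nat.lor (Nat.shiftLeft 1 1259) (Nat.shiftLeft 1 1368)) (Nat.shiftLeft 1 1396)) (Nat.shiftLeft 1 3011)) (Nat.shiftLeft 1 3186)) (Nat.shiftLeft 1 3359)) (Nat.shiftLeft 1 3758)) (Nat.shiftLeft 1 4140)) (Nat.shiftLeft 1 4243)) (Nat.shiftLeft 1 4861)) (Nat.shiftLeft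 1 5324)) (Nat.shiftLeft 1 6299)) (Nat.shiftLeft 1 6711)) (Nat.shiftLeft 1 7424)) (Nat.shiftLeft 1 8181)) (Nat.shiftLeft 1 9792)) (Nat.shiftLeft 1 9795)) (Nat.shiftLeft 1 10154)) (Nat.shiftLeft 1 11099)) (Nat.shiftLeft 1 11422)) (Nat.shiftLeft 1 12285)) (Nat.shiftLeft 1 14574)) (Nat.shiftLeft 1 18780)) (Nat.shiftLeft 1 20105)) (M24m) = true := by decide +kernel
theorem k_lj : Nat.beq (appF net ((H35.FiClass23.tw.map toX) ++ [.j]) (Nat.shiftLeft 1 8006)) (Nat.shiftLeft 1 0) = true := by decide +kernel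
theorem k_lg : Nat.beq (appF net [.j, .g] (Nat.shiftLeft 1 8005)) (Nat.shiftLeft 1 8006) = true := by decide +kernel
theorem k_lf : Nat.beq (appF net [.g, .f] (Nat.shiftLeft 1 8002)) (Nat.shiftLeft 1 8005) = true := by decide +kernel
theorem k_le : Nat.beq (appF net [.f, .e] (Nat.shiftLeft 1 8001)) (Nat.shiftLeft 1 8002) = true := by decide +kernel
theorem k_ld : Nat.beq (appF net [.e, .d] (Nat.shiftLeft 1 8000)) (Nat.shiftLeft 1 8001) = true := by decide +kernel
theorem k_lc : Nat.beq (appF net [.d, .c] (Nat.shiftLeft 1 8003)) (Nat.shiftLeft 1 8000) = true := by decide +kernel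
theorem k_lb : Nat.beq (appF net [.c, .b] (Nat.shiftLeft 1 8004)) (Nat.shiftLeft 1 8003) = true := by decide +kernel
theorem k_la : Nat.beq (appF net [.b, .a] (Nat.shiftLeft 1 11589)) (Nat.shiftLeft 1 8004) = true := by decide +kernel
theorem k_lh : Nat.beq (appF net [.d, .h] (Nat.shiftLeft 1 7999)) (Nat.shiftLeft 1 8000) = true := by decide +kernel
theorem k_li : Nat.beq (appF net [.h, .i] (Nat.shiftLeft 1 8007)) (Nat.shiftLeft 1 7999) = true := by decide +kernel
theorem k_u9 : Nat.beq (appF net w9 (Nat.shiftLeft 1 0)) (Nat.shiftLeft 1 0) = false := by decide +kernel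
end H94.F23
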