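import Cfsg.Agent.Lib.H35.NFi23.Net
import Cfsg.Agent.Lib.H35.NetKit
import Cfsg.Agent.Lib.H94.F23.M0
import Cfsg.Agent.Lib.H94.F23.M1
import Cfsg.Agent.Lib.H94.F23.M2
import Cfsg.Agent.Lib.H94.F23.M3
import Cfsg.Agent.Lib.H94.F23.M4
import Cfsg.Agent.Lib.H94.F23.M5
import Cfsg.Agent.Lib.H94.F23.M6
import Cfsg.Agent.Lib.H94.F23.M7
import Cfsg.Agent.Lib.H94.F23.M8
import Cfsg.Agent.Lib.H94.F23.M9
set_option autoImplicit false
set_option maxRecDepth 100000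
set_option linter.all false
set_option Elab.async false
namespace H94.F23
open H35.TC H35.Net
/-- letters -/
inductive X where
  | a | b | c | d | e | f | g | j | h | i | p0 | p1 | p2 | p3 | p4 | p5 | p6 | p7 | p8 | p9 | n0 | n1 | n2 | n3 | n4 | n5 | n6 | n7 | n8 | n9
/-- network -/
noncomputable def nx_0 : List (ℕ × ℕ) := [(nat_lit 16384, m_0_0), (nat_lit 8192, m_0_1), (nat_lit 4096, m_0_2), (nat_lit 2048, m_0_3), (nat_lit 1024, m_0_4), (nat_lit 512, m_0_5), (nat_lit 256, m_0_6), (nat_lit 128, m_0_7), (nat_lit 64, m_0_8), (nat_lit 32, m_0_9), (nat_lit 16, m_0_10), (nat_lit 8, m_0_11), (nat_lit 4, m_0_12), (nat_lit 2, m_0_13), (nat_lit 1, m_0_14), (nat_lit 2, m_0_15), (nat_lit 4, m_0_16), (nat_lit 8, m_0_17), (nat_lit 16, m_0_18), (nat_lit 32, m_0_19), (nat_lit 64, m_0_20), (nat_lit 128, m_0_21), (nat_lit 256, m_0_22), (nat_lit 512, m_0_23), (nat_lit 1024, m_0_24), (nat_lit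 2048, m_0_25), (nat_lit 4096, m_0_26), (nat_lit 8192, m_0_27), (nat_lit 16384, m_0_28)]
/-- network -/
noncomputable def ni_0 : List (ℕ × ℕ) := [(nat_lit 16384, m_0_28), (nat_lit 8192, m_0_27), (nat_lit 4096, m_0_26), (nat_lit 2048, m_0_25), (nat_lit 1024, m_0_24), (nat_lit 512, m_0_23), (nat_lit 256, m_0_22), (nat_lit 128, m_0_21), (nat_lit 64, m_0_20), (nat_lit 32, m_0_19), (nat_lit 16, m_0_18), (nat_lit 8, m_0_17), (nat_lit 4, m_0_16), (nat_lit 2, m_0_15), (nat_lit 1, m_0_14), (nat_lit 2, m_0_13), (nat_lit 4, m_0_12), (nat_lit 8, m_0_11), (nat_lit 16, m_0_10), (nat_lit 32, m_0_9), (nat_lit 64, m_0_8), (nat_lit 128, m_0_7), (nat_lit 256, m_0_6), (nat_lit 512, m_0_5), (nat_lit 1024, m_0_4), (nat_lit 2048, m_0_3), (nat_lit 4096, m_0_2), (nat_lit 8192, m_0_1), (nat_lit 16384, m_0_0)]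
/-- network -/
noncomputable def nx_1 : List (ℕ × ℕ) := [(nat_lit 16384, m_1_0), (nat_lit 8192, m_1_1), (nat_lit 4096, m_1_2), (nat_lit 2048, m_1_3), (nat_lit 1024, m_1_4), (nat_lit 512, m_1_5), (nat_lit 256, m_1_6), (nat_lit 128, m_1_7), (nat_lit 64, m_1_8), (nat_lit 32, m_1_9), (nat_lit 16, m_1_10), (nat_lit 8, m_1_11), (nat_lit 4, m_1_12), (nat_lit 2, m_1_13), (nat_lit 1, m_1_14), (nat_lit 2, m_1_15), (nat_lit 4, m_1_16), (nat_lit 8, m_1_17), (nat_lit 16, m_1_18), (nat_lit 32, m_1_19), (nat_lit 64, m_1_20), (nat_lit 128, m_1_21), (nat_lit 256, m_1_22), (nat_lit 512, m_1_23), (nat_lit 1024, m_1_24), (nat_lit 2048, m_1_25), (nat_lit 4096, m_1_26), (nat_lit 8192, m_1_27), (nat_lit 16384, m_1_28)]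
/-- network -/
noncomputable def ni_1 : List (ℕ × ℕ) := [(nat_lit 16384, m_1_28), (nat_lit 8192, m_1_27), (nat_lit 4096, m_1_26), (nat_lit 2048, m_1_25), (nat_lit 1024, m_1_24), (nat_lit 512, m_1_23), (nat_lit 256, m_1_22), (nat_lit 128, m_1_21), (nat_lit 64, m_1_20), (nat_lit 32, m_1_19), (nat_lit 16, m_1_18), (nat_lit 8, m_1_17), (nat_lit 4, m_1_16), (nat_lit 2, m_1_15), (nat_lit 1, m_1_14), (nat_lit 2, m_1_13), (nat_lit 4, m_1_12), (nat_lit 8, m_1_11), (nat_lit 16, m_1_10), (nat_lit 32, m_1_9), (nat_lit 64, m_1_8), (nat_lit 128, m_1_7), (nat_lit 256, m_1_6), (nat_lit 512, m_1_5), (nat_lit 1024, m_1_4), (nat_lit 2048, m_1_3), (nat_lit 4096, m_1_2), (nat_lit 8192, m_1_1), (nat_lit 16384, m_1_0)]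
/-- network -/
noncomputable def nx_2 : List (ℕ × ℕ) := [(nat_lit 16384, m_2_0), (nat_lit 8192, m_2_1), (nat_lit 4096, m_2_2), (nat_lit 2048, m_2_3), (nat_lit 1024, m_2_4), (nat_lit 512, m_2_5), (nat_lit 256, m_2_6), (nat_lit 128, m_2_7), (nat_lit 64, m_2_8), (nat_lit 32, m_2_9), (nat_lit 16, m_2_10), (nat_lit 8, m_2_11), (nat_lit 4, m_2_12), (nat_lit 2, m_2_13), (nat_lit 1, m_2_14), (nat_lit 2, m_2_15), (nat_lit 4, m_2_16), (nat_lit 8, m_2_17), (nat_lit 16, m_2_18), (nat_lit 32, m_2_19), (nat_lit 64, m_2_20), (nat_lit 128, m_2_21), (nat_lit 256, m_2_22), (nat_lit 512, m_2_23), (nat_lit 1024, m_2_24), (nat_lit 2048, m_2_25), (nat_lit 4096, m_2_26), (nat_lit 8192, m_2_27), (nat_lit 16384, m_2_28)]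
/-- network -/
noncomputable def ni_2 : List (ℕ × ℕ) := [(nat_lit 16384, m_2_28), (nat_lit 8192, m_2_27), (nat_lit 4096, m_2_26), (nat_lit 2048, m_2_25), (nat_lit 1024, m_2_24), (nat_lit 512, m_2_23), (nat_lit 256, m_2_22), (nat_lit 128, m_2_21), (nat_lit 64, m_2_20), (nat_lit 32, m_2_19), (nat_lit 16, m_2_18), (nat_lit 8, m_2_17), (nat_lit 4, m_2_16), (nat_lit 2, m_2_15), (nat_lit 1, m_2_14), (nat_lit 2, m_2_13), (nat_lit 4, m_2_12), (nat_lit 8, m_2_11), (nat_lit 16, m_2_10), (nat_lit 32, m_2_9), (nat_lit 64, m_2_8), (nat_lit 128, m_2_7), (nat_lit 256, m_2_6), (nat_lit 512, m_2_5), (nat_lit 1024, m_2_4), (nat_lit 2048, m_2_3), (nat_lit 4096, m_2_2), (nat_lit 8192, m_2_1), (nat_lit 16384, m_2_0)]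
/-- network -/
noncomputable def nx_3 : List (ℕ × ℕ) := [(nat_lit 16384, m_3_0), (nat_lit 8192, m_3_1), (nat_lit 4096, m_3_2), (nat_lit 2048, m_3_3), (nat_lit 1024, m_3_4), (nat_lit 512, m_3_5), (nat_lit 256, m_3_6), (nat_lit 128, m_3_7), (nat_lit 64, m_3_8), (nat_lit 32, m_3_9), (nat_lit 16, m_3_10), (nat_lit 8, m_3_11), (nat_lit 4, m_3_12), (nat_lit 2, m_3_13), (nat_lit 1, m_3_14), (nat_lit 2, m_3_15), (nat_lit 4, m_3_16), (nat_lit 8, m_3_17), (nat_lit 16, m_3_18), (nat_lit 32, m_3_19), (nat_lit 64, m_3_20), (nat_lit 128, m_3_21), (nat_lit 256, m_3_22), (nat_lit 512, m_3_23), (nat_lit 1024, m_3_24), (nat_lit 2048, m_3_25), (nat_lit 4096, m_3_26), (nat_lit 8192, m_3_27), (nat_lit 16384, m_3_28)]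
/-- network -/
noncomputable def ni_3 : List (ℕ × ℕ) := [(nat_lit 16384, m_3_28), (nat_lit 8192, m_3_27), (nat_lit 4096, m_3_26), (nat_lit 2048, m_3_25), (nat_lit 1024, m_3_24), (nat_lit 512, m_3_23), (nat_lit 256, m_3_22), (nat_lit 128, m_3_21), (nat_lit 64, m_3_20), (nat_lit 32, m_3_19), (nat_lit 16, m_3_18), (nat_lit 8, m_3_17), (nat_lit 4, m_3_16), (nat_lit 2, m_3_15), (nat_lit 1, m_3_14), (nat_lit 2, m_3_13), (nat_lit 4, m_3_12), (nat_lit 8, m_3_11), (nat_lit 16, m_3_10), (nat_lit 32, m_3_9), (nat_lit 64, m_3_8), (nat_lit 128, m_3_7), (nat_lit 256, m_3_6), (nat_lit 512, m_3_5), (nat_lit 1024, m_3_4), (nat_lit 2048, m_3_3), (nat_lit 4096, m_3_2), (nat_lit 8192, m_3_1), (nat_lit 16384, m_3_0)]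
/-- network -/
noncomputable def nx_4 : List (ℕ × ℕ) := [(nat_lit 16384, m_4_0), (nat_lit 8192, m_4_1), (nat_lit 4096, m_4_2), (nat_lit 2048, m_4_3), (nat_lit 1024, m_4_4), (nat_lit 512, m_4_5), (nat_lit 256, m_4_6), (nat_lit 128, m_4_7), (nat_lit 64, m_4_8), (nat_lit 32, m_4_9), (nat_lit 16, m_4_10), (nat_lit 8, m_4_11), (nat_lit 4, m_4_12), (nat_lit 2, m_4_13), (nat_lit 1, m_4_14), (nat_lit 2, m_4_15), (nat_lit 4, m_4_16), (nat_lit 8, m_4_17), (nat_lit 16, m_4_18), (nat_lit 32, m_4_19), (nat_lit 64, m_4_20), (nat_lit 128, m_4_21), (nat_lit 256, m_4_22), (nat_lit 512, m_4_23), (nat_lit 1024, m_4_24), (nat_lit 2048, m_4_25), (nat_lit 4096, m_4_26), (nat_lit 8192, m_4_27), (nat_lit 16384, m_4_28)]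
/-- network -/
noncomputable def ni_4 : List (ℕ × ℕ) := [(nat_lit 16384, m_4_28), (nat_lit 8192, m_4_27), (nat_lit 4096, m_4_26), (nat_lit 2048, m_4_25), (nat_lit 1024, m_4_24), (nat_lit 512, m_4_23), (nat_lit 256, m_4_22), (nat_lit 128, m_4_21), (nat_lit 64, m_4_20), (nat_lit 32, m_4_19), (nat_lit 16, m_4_18), (nat_lit 8, m_4_17), (nat_lit 4, m_4_16), (nat_lit 2, m_4_15), (nat_lit 1, m_4_14), (nat_lit 2, m_4_13), (nat_lit 4, m_4_12), (nat_lit 8, m_4_11), (nat_lit 16, m_4_10), (nat_lit 32, m_4_9), (nat_lit 64, m_4_8), (nat_lit 128, m_4_7), (nat_lit 256, m_4_6), (nat_lit 512, m_4_5), (nat_lit 1024, m_4_4), (nat_lit 2048, m_4_3), (nat_lit 4096, m_4_2), (nat_lit 8192, m_4_1), (nat_lit 16384, m_4_0)]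
/-- network -/
noncomputable def nx_5 : List (ℕ × ℕ) := [(nat_lit 16384, m_5_0), (nat_lit 8192, m_5_1), (nat_lit 4096, m_5_2), (nat_lit 2048, m_5_3), (nat_lit 1024, m_5_4), (nat_lit 512, m_5_5), (nat_lit 256, m_5_6), (nat_lit 128, m_5_7), (nat_lit 64, m_5_8), (nat_lit 32, m_5_9), (nat_lit 16, m_5_10), (nat_lit 8, m_5_11), (nat_lit 4, m_5_12), (nat_lit 2, m_5_13), (nat_lit 1, m_5_14), (nat_lit 2, m_5_15), (nat_lit 4, m_5_16), (nat_lit 8, m_5_17), (nat_lit 16, m_5_18), (nat_lit 32, m_5_19), (nat_lit 64, m_5_20), (nat_lit 128, m_5_21), (nat_lit 256, m_5_22), (nat_lit 512, m_5_23), (nat_lit 1024, m_5_24), (nat_lit 2048, m_5_25), (nat_lit 4096, m_5_26), (nat_lit 8192, m_5_27), (nat_lit 16384, m_5_28)]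
/-- network -/
noncomputable def ni_5 : List (ℕ × ℕ) := [(nat_lit 16384, m_5_28), (nat_lit 8192, m_5_27), (nat_lit 4096, m_5_26), (nat_lit 2048, m_5_25), (nat_lit 1024, m_5_24), (nat_lit 512, m_5_23), (nat_lit 256, m_5_22), (nat_lit 128, m_5_21), (nat_lit 64, m_5_20), (nat_lit 32, m_5_19), (nat_lit 16, m_5_18), (nat_lit 8, m_5_17), (nat_lit 4, m_5_16), (nat_lit 2, m_5_15), (nat_lit 1, m_5_14), (nat_lit 2, m_5_13), (nat_lit 4, m_5_12), (nat_lit 8, m_5_11), (nat_lit 16, m_5_10), (nat_lit 32, m_5_9), (nat_lit 64, m_5_8), (nat_lit 128, m_5_7), (nat_lit 256, m_5_6), (nat_lit 512, m_5_5), (nat_lit 1024, m_5_4), (nat_lit 2048, m_5_3), (nat_lit 4096, m_5_2), (nat_lit 8192, m_5_1), (nat_lit 16384, m_5_0)]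
/-- network -/
noncomputable def nx_6 : List (ℕ × ℕ) := [(nat_lit 16384, m_6_0), (nat_lit 8192, m_6_1), (nat_lit 4096, m_6_2), (nat_lit 2048, m_6_3), (nat_lit 1024, m_6_4), (nat_lit 512, m_6_5), (nat_lit 256, m_6_6), (nat_lit 128, m_6_7), (nat_lit 64, m_6_8), (nat_lit 32, m_6_9), (nat_lit 16, m_6_10), (nat_lit 8, m_6_11), (nat_lit 4, m_6_12), (nat_lit 2, m_6_13), (nat_lit 1, m_6_14), (nat_lit 2, m_6_15), (nat_lit 4, m_6_16), (nat_lit 8, m_6_17), (nat_lit 16, m_6_18), (nat_lit 32, m_6_19), (nat_lit 64, m_6_20), (nat_lit 128, m_6_21), (nat_lit 256, m_6_22), (nat_lit 512, m_6_23), (nat_lit 1024, m_6_24), (nat_lit 2048, m_6_25), (nat_lit 4096, m_6_26), (nat_lit 8192, m_6_27), (nat_lit 16384, m_6_28)]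
/-- network -/
noncomputable def ni_6 : List (ℕ × ℕ) := [(nat_lit 16384, m_6_28), (nat_lit 8192, m_6_27), (nat_lit 4096, m_6_26), (nat_lit 2048, m_6_25), (nat_lit 1024, m_6_24), (nat_lit 512, m_6_23), (nat_lit 256, m_6_22), (nat_lit 128, m_6_21), (nat_lit 64, m_6_20), (nat_lit 32, m_6_19), (nat_lit 16, m_6_18), (nat_lit 8, m_6_17), (nat_lit 4, m_6_16), (nat_lit 2, m_6_15), (nat_lit 1, m_6_14), (nat_lit 2, m_6_13), (nat_lit 4, m_6_12), (nat_lit 8, m_6_11), (nat_lit 16, m_6_10), (nat_lit 32, m_6_9), (nat_lit 64, m_6_8), (nat_lit 128, m_6_7), (nat_lit 256, m_6_6), (nat_lit 512, m_6_5), (nat_lit 1024, m_6_4), (nat_lit 2048, m_6_3), (nat_lit 4096, m_6_2), (nat_lit 8192, m_6_1), (nat_lit 16384, m_6_0)]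
/-- network -/
noncomputable def nx_7 : List (ℕ × ℕ) := [(nat_lit 16384, m_7_0), (nat_lit 8192, m_7_1), (nat_lit 4096, m_7_2), (nat_lit 2048, m_7_3), (nat_lit 1024, m_7_4), (nat_lit 512, m_7_5), (nat_lit 256, m_7_6), (nat_lit 128, m_7_7), (nat_lit 64, m_7_8), (nat_lit 32, m_7_9), (nat_lit 16, m_7_10), (nat_lit 8, m_7_11), (nat_lit 4, m_7_12), (nat_lit 2, m_7_13), (nat_lit 1, m_7_14), (nat_lit 2, m_7_15), (nat_lit 4, m_7_16), (nat_lit 8, m_7_17), (nat_lit 16, m_7_18), (nat_lit 32, m_7_19), (nat_lit 64, m_7_20), (nat_lit 128, m_7_21), (nat_lit 256, m_7_22), (nat_lit 512, m_7_23), (nat_lit 1024, m_7_24), (nat_lit 2048, m_7_25), (nat_lit 4096, m_7_26), (nat_lit 8192, m_7_27), (nat_lit 16384, m_7_28)]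
/-- network -/
noncomputable def ni_7 : List (ℕ × ℕ) := [(nat_lit 16384, m_7_28), (nat_lit 8192, m_7_27), (nat_lit 4096, m_7_26), (nat_lit 2048, m_7_25), (nat_lit 1024, m_7_24), (nat_lit 512, m_7_23), (nat_lit 256, m_7_22), (nat_lit 128, m_7_21), (nat_lit 64, m_7_20), (nat_lit 32, m_7_19), (nat_lit 16, m_7_18), (nat_lit 8, m_7_17), (nat_lit 4, m_7_16), (nat_lit 2, m_7_15), (nat_lit 1, m_7_14), (nat_lit 2, m_7_13), (nat_lit 4, m_7_12), (nat_lit 8, m_7_11), (nat_lit 16, m_7_10), (nat_lit 32, m_7_9), (nat_lit 64, m_7_8), (nat_lit 128, m_7_7), (nat_lit 256, m_7_6), (nat_lit 512, m_7_5), (nat_lit 1024, m_7_4), (nat_lit 2048, m_7_3), (nat_lit 4096, m_7_2), (nat_lit 8192, m_7_1), (nat_lit 16384, m_7_0)]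
/-- network -/
noncomputable def nx_8 : List (ℕ × ℕ) := [(nat_lit 16384, m_8_0), (nat_lit 8192, m_8_1), (nat_lit 4096, m_8_2), (nat_lit 2048, m_8_3), (nat_lit 1024, m_8_4), (nat_lit 512, m_8_5), (nat_lit 256, m_8_6), (nat_lit 128, m_8_7), (nat_lit 64, m_8_8), (nat_lit 32, m_8_9), (nat_lit 16, m_8_10), (nat_lit 8, m_8_11), (nat_lit 4, m_8_12), (nat_lit 2, m_8_13), (nat_lit 1, m_8_14), (nat_lit 2, m_8_15), (nat_lit 4, m_8_16), (nat_lit 8, m_8_17), (nat_lit 16, m_8_18), (nat_lit 32, m_8_19), (nat_lit 64, m_8_20), (nat_lit 128, m_8_21), (nat_lit 256, m_8_22), (nat_lit 512, m_8_23), (nat_lit 1024, m_8_24), (nat_lit 2048, m_8_25), (nat_lit 4096, m_8_26), (nat_lit 8192, m_8_27), (nat_lit 16384, m_8_28)]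
/-- network -/
noncomputable def ni_8 : List (ℕ × ℕ) := [(nat_lit 16384, m_8_28), (nat_lit 8192, m_8_27), (nat_lit 4096, m_8_26), (nat_lit 2048, m_8_25), (nat_lit 1024, m_8_24), (nat_lit 512, m_8_23), (nat_lit 256, m_8_22), (nat_lit 128, m_8_21), (nat_lit 64, m_8_20), (nat_lit 32, m_8_19), (nat_lit 16, m_8_18), (nat_lit 8, m_8_17), (nat_lit 4, m_8_16), (nat_lit 2, m_8_15), (nat_lit 1, m_8_14), (nat_lit 2, m_8_13), (nat_lit 4, m_8_12), (nat_lit 8, m_8_11), (nat_lit 16, m_8_10), (nat_lit 32, m_8_9), (nat_lit 64, m_8_8), (nat_lit 128, m_8_7), (nat_lit 256, m_8_6), (nat_lit 512, m_8_5), (nat_lit 1024, m_8_4), (nat_lit 2048, m_8_3), (nat_lit 4096, m_8_2), (nat_lit 8192, m_8_1), (nat_lit 16384, m_8_0)]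
/-- network -/
noncomputable def nx_9 : List (ℕ × ℕ) := [(nat_lit 16384, m_9_0), (nat_lit 8192, m_9_1), (nat_lit 4096, m_9_2), (nat_lit 2048, m_9_3), (nat_lit 1024, m_9_4), (nat_lit 512, m_9_5), (nat_lit 256, m_9_6), (nat_lit 128, m_9_7), (nat_lit 64, m_9_8), (nat_lit 32, m_9_9), (nat_lit 16, m_9_10), (nat_lit 8, m_9_11), (nat_lit 4, m_9_12), (nat_lit 2, m_9_13), (nat_lit 1, m_9_14), (nat_lit 2, m_9_15), (nat_lit 4, m_9_16), (nat_lit 8, m_9_17), (nat_lit 16, m_9_18), (nat_lit 32, m_9_19), (nat_lit 64, m_9_20), (nat_lit 128, m_9_21), (nat_lit 256, m_9_22), (nat_lit 512, m_9_23), (nat_lit 1024, m_9_24), (nat_lit 2048, m_9_25), (nat_lit 4096, m_9_26), (nat_lit 8192, m_9_27), (nat_lit 16384, m_9_28)]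
/-- network -/
noncomputable def ni_9 : List (ℕ × ℕ) := [(nat_lit 16384, m_9_28), (nat_lit 8192, m_9_27), (nat_lit 4096, m_9_26), (nat_lit 2048, m_9_25), (nat_lit 1024, m_9_24), (nat_lit 512, m_9_23), (nat_lit 256, m_9_22), (nat_lit 128, m_9_21), (nat_lit 64, m_9_20), (nat_lit 32, m_9_19), (nat_lit 16, m_9_18), (nat_lit 8, m_9_17), (nat_lit 4, m_9_16), (nat_lit 2, m_9_15), (nat_lit 1, m_9_14), (nat_lit 2, m_9_13), (nat_lit 4, m_9_12), (nat_lit 8, m_9_11), (nat_lit 16, m_9_10), (nat_lit 32, m_9_9), (nat_lit 64, m_9_8), (nat_lit 128, m_9_7), (nat_lit 256, m_9_6), (nat_lit 512, m_9_5), (nat_lit 1024, m_9_4), (nat_lit 2048, m_9_3), (nat_lit 4096, m_9_2), (nat_lit 8192, m_9_1), (nat_lit 16384, m_9_0)]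
/-- networks of the letters -/
noncomputable def net : X → ℕ → ℕ
  | .a => runNet H35.NFi23.nl_a
  | .b => runNet H35.NFi23.nl_b
  | .c => runNet H35.NFi23.nl_c
  | .d => runNet H35.NFi23.nl_d
  | .e => runNet H35.NFi23.nl_e
  | .f => runNet H35.NFi23.nl_f
  | .g => runNet H35.NFi23.nl_g
  | .j => runNet H35.NFi23.nl_j
  | .h => runNet H35.NFi23.nl_h
  | .i => runNet H35.NFi23.nl_i
  | .p0 => runNet nx_0
  | .p1 => runNet nx_1
  | .p2 => runNet nx_2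
  | .p3 => runNet nx_3
  | .p4 => runNet nx_4
  | .p5 => runNet nx_5
  | .p6 => runNet nx_6
  | .p7 => runNet nx_7
  | .p8 => runNet nx_8
  | .p9 => runNet nx_9
  | .n0 => runNet ni_0
  | .n1 => runNet ni_1
  | .n2 => runNet ni_2
  | .n3 => runNet ni_3
  | .n4 => runNet ni_4
  | .n5 => runNet ni_5
  | .n6 => runNet ni_6
  | .n7 => runNet ni_7
  | .n8 => runNet ni_8
  | .n9 => runNet ni_9
theorem cx_0 : chkNet 32768 nx_0 = true := by decide +kernel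
theorem ci_0 : chkNet 32768 ni_0 = true := by decide +kernel
theorem cx_1 : chkNet 32768 nx_1 = true := by decide +kernel
theorem ci_1 : chkNet 32768 ni_1 = true := by decide +kernel
theorem cx_2 : chkNet 32768 nx_2 = true := by decide +kernel
theorem ci_2 : chkNet 32768 ni_2 = true := by decide +kernel
theorem cx_3 : chkNet 32768 nx_3 = true := by decide +kernel
theorem ci_3 : chkNet 32768 ni_3 = true := by decide +kernel
theorem cx_4 : chkNet 32768 nx_4 = true := by decide +kernel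
theorem ci_4 : chkNet 32768 ni_4 = true := by decide +kernel
theorem cx_5 : chkNet 32768 nx_5 = true := by decide +kernel
theorem ci_5 : chkNet 32768 ni_5 = true := by decide +kernel
theorem cx_6 : chkNet 32768 nx_6 = true := by decide +kernel
theorem ci_6 : chkNet 32768 ni_6 = true := by decide +kernel
theorem cx_7 : chkNet 32768 nx_7 = true := by decide +kernel
theorem ci_7 : chkNet 32768 ni_7 = true := by decide +kernel
theorem cx_8 : chkNet 32768 nx_8 = true := by decide +kernel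
theorem ci_8 : chkNet 32768 ni_8 = true := by decide +kernel
theorem cx_9 : chkNet 32768 nx_9 = true := by decide +kernel
theorem ci_9 : chkNet 32768 ni_9 = true := by decide +kernel
theorem bp : ∀ x, ∃ π : Equiv.Perm ℕ, BP (2 ^ 15) (net x) π := by
  have e : (2 : ℕ) ^ 15 = 32768 := by norm_num
  rw [e]
  intro x
  cases x
  · exact runNet_BP H35.NFi23.ck_a
  · exact runNet_BP H35.NFi23.ck_b
  · exact runNet_BP H35.NFi23.ck_c
  · exact runNet_BP H35.NFi23.ck_d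
  · exact runNet_BP H35.NFi23.ck_e
  · exact runNet_BP H35.NFi23.ck_f
  · exact runNet_BP H35.NFi23.ck_g
  · exact runNet_BP H35.NFi23.ck_j
  · exact runNet_BP H35.NFi23.ck_h
  · exact runNet_BP H35.NFi23.ck_i
  · exact runNet_BP cx_0
  · exact runNet_BP cx_1
  · exact runNet_BP cx_2
  · exact runNet_BP cx_3
  · exact runNet_BP cx_4
  · exact runNet_BP cx_5
  · exact runNet_BP cx_6
  · exact runNet_BP cx_7
  · exact runNet_BP cx_8
  · exact runNet_BP cx_9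
  · exact runNet_BP ci_0
  · exact runNet_BP ci_1
  · exact runNet_BP ci_2
  · exact runNet_BP ci_3
  · exact runNet_BP ci_4
  · exact runNet_BP ci_5
  · exact runNet_BP ci_6
  · exact runNet_BP ci_7
  · exact runNet_BP ci_8
  · exact runNet_BP ci_9
/-- the permutation of a letter -/
noncomputable def π (x : X) : Equiv.Perm ℕ := (bp x).choose
theorem hbp : ∀ x, BP (2 ^ 15) (net x) (π x) := fun x => (bp x).choose_spec
/-- embedding -/
def toX : H35.TCFi23A.Lt → X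
  | .a => .a
  | .b => .b
  | .c => .c
  | .d => .d
  | .e => .e
  | .f => .f
  | .g => .g
  | .j => .j
  | .h => .h
  | .i => .i
theorem π_toX (l : H35.TCFi23A.Lt) : π (toX l) = H35.NFi23.π l := by
  cases l
  · exact BP.unique (hbp .a) (H35.NFi23.hbp .a)
  · exact BP.unique (hbp .b) (H35.NFi23.hbp .b)
  · exact BP.unique (hbp .c) (H35.NFi23.hbp .c)
  · exact BP.unique (hbp .d) (H35.NFi23.hbp .d)
  · exact BP.unique (hbp .e) (H35.NFi23.hbp .e)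
  · exact BP.unique (hbp .f) (H35.NFi23.hbp .f)
  · exact BP.unique (hbp .g) (H35.NFi23.hbp .g)
  · exact BP.unique (hbp .j) (H35.NFi23.hbp .j)
  · exact BP.unique (hbp .h) (H35.NFi23.hbp .h)
  · exact BP.unique (hbp .i) (H35.NFi23.hbp .i)
/-- rank of a letter -/
def idx : X → ℕ
  | .a => 0
  | .b => 0
  | .c => 0
  | .d => 0
  | .e => 0
  | .f => 0
  | .g => 0
  | .j => 0
  | .h => 0
  | .i => 0
  | .p0 => 1
  | .p1 => 2
  | .p2 => 3
  | .p3 => 4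
  | .p4 => 5
  | .p5 => 6
  | .p6 => 7
  | .p7 => 8
  | .p8 => 9
  | .p9 => 10
  | .n0 => 1
  | .n1 => 2
  | .n2 => 3
  | .n3 => 4
  | .n4 => 5
  | .n5 => 6
  | .n6 => 7
  | .n7 => 8
  | .n8 => 9
  | .n9 => 10
/-- formal inverse -/
def iv : X → X
  | .a => .a
  | .b => .b
  | .c => .c
  | .d => .d
  | .e => .e
  | .f => .f
  | .g => .g
  | .j => .j
  | .h => .h
  | .i => .i
  | .p0 => .n0
  | .p1 => .n1
  | .p2 => .n2
  | .p3 => .n3
  | .p4 => .n4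
  | .p5 => .n5
  | .p6 => .n6
  | .p7 => .n7
  | .p8 => .n8
  | .p9 => .n9
  | .n0 => .p0
  | .n1 => .p1
  | .n2 => .p2
  | .n3 => .p3
  | .n4 => .p4
  | .n5 => .p5
  | .n6 => .p6
  | .n7 => .p7
  | .n8 => .p8
  | .n9 => .p9
/-- defining word -/
def wd_0 : List X := [.i, .h, .e, .f, .c, .d, .e, .b, .c, .d, .h, .i, .d, .e, .f, .c, .d, .e, .b, .c, .d, .h, .j, .g, .f, .e, .d, .c, .b, .a, .b, .c, .d, .e, .f, .g, .j, .h, .d, .c, .b, .e, .d, .c, .f, .e, .d, .i, .h, .d, .c, .b, .e, .d, .c, .f, .e, .h, .i, .h, .d, .e, .c, .d, .h, .i, .f, .e, .c, .d, .h, .j, .g, .f, .e, .d, .c, .b, .c, .d, .e, .f, .g, .j, .h, .d, .c, .e, .f, .i, .h, .d, .c, .e, .d, .h]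
/-- defining word -/
def wd_1 : List X := [.j, .g, .j, .e, .a, .b, .c, .d, .h, .i, .f, .d, .e, .c, .d, .h, .j, .g, .f, .e, .d, .c, .b, .a, .b, .c, .d, .e, .f, .g, .j, .h, .d, .c, .e, .d, .f, .i, .h, .d, .c, .b, .a, .e, .b, .c, .d, .h, .i, .e, .f, .d, .e, .c, .d, .h, .j, .g, .f, .e, .d, .c, .b, .a, .b, .c, .d, .e, .f, .g, .j, .h, .d, .c, .e, .d, .f, .e, .i, .h, .d, .c, .b]
/-- defining word -/
def wd_2 : List X := [.n1, .d, .e, .c, .d, .h, .i, .d, .e, .c, .d, .h, .f, .e, .d, .c, .b, .c, .d, .e, .f, .h, .d, .c, .e, .d, .i, .h, .d, .c, .e, .d, .n0, .i, .e, .f, .d, .e, .c, .d, .h, .j, .g, .f, .e, .d, .c, .b, .c, .d, .e, .f, .g, .j, .h, .d, .c, .e, .d, .f, .e, .i, .n1, .d, .e, .c, .d, .h, .i, .d, .e, .c, .d, .h, .f, .e, .d, .c, .b, .c, .d, .e, .f, .h, .d, .c, .e, .d, .i, .h, .d, .c, .e, .d, .i, .e, .f, .d, .e, .c, .d, .h, .j, .g, .f, .e, .d, .c, .b, .c, .d, .e, .f, .g, .j, .h,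 .d, .c, .e, .d, .f, .e, .i, .p0, .d, .e, .c, .d, .h, .i, .d, .e, .c, .d, .h, .f, .e, .d, .c, .b, .c, .d, .e, .f, .h, .d, .c, .e, .d, .i, .h, .d, .c, .e, .d, .p1, .n0, .i, .e, .f, .d, .e, .c, .d, .h, .j, .g, .f, .e, .d, .c, .b, .c, .d, .e, .f, .g, .j, .h, .d, .c, .e, .d, .f, .e, .i, .d, .e, .c, .d, .h, .i, .d, .e, .c, .d, .h, .f, .e, .d, .c, .b, .c, .d, .e, .f, .h, .d, .c, .e, .d, .i, .h, .d, .c, .e, .d, .p1, .i, .e, .f, .d, .e, .c, .d, .h, .j, .g, .f, .e, .d, .c, .b, .c, .d, .e, .f, .g, .j, .h, .d, .c, .e, .d, .f, .e, .i, .p0]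
/-- defining word -/
def wd_3 : List X := [.n2, .n0, .n2, .p0, .p2, .n0, .p2, .p0]
/-- defining word -/
def wd_4 : List X := [.n3, .i, .h, .f, .d, .e, .c, .d, .h, .g, .f, .e, .d, .c, .b, .c, .d, .e, .f, .g, .h, .d, .c, .e, .d, .f, .h, .i, .n0, .n3, .p0, .i, .h, .f, .d, .e, .c, .d, .h, .g, .f, .e, .d, .c, .b, .c, .d, .e, .f, .g, .h, .d, .c, .e, .d, .f, .h, .i, .p3, .i, .h, .f, .d, .e, .c, .d, .h, .g, .f, .e, .d, .c, .b, .c, .d, .e, .f, .g, .h, .d, .c, .e, .d, .f, .h, .i, .n0, .p3, .p0, .i, .h, .f, .d, .e, .c, .d, .h, .g, .f, .e, .d, .c, .b, .c, .d, .e, .f, .g, .h, .d, .c, .e, .d, .f, .h, .i]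
/-- defining word -/
def wd_5 : List X := [.n4, .d, .e, .b, .c, .d, .h, .i, .f, .e, .d, .h, .j, .g, .f, .e, .d, .c, .d, .e, .f, .g, .j, .h, .d, .e, .f, .i, .h, .d, .c, .b, .e, .d, .n4, .d, .e, .b, .c, .d, .h, .i, .f, .e, .d, .h, .j, .g, .f, .e, .d, .c, .d, .e, .f, .g, .j, .h, .d, .e, .f, .i, .h, .d, .c, .b, .e, .d, .p4, .d, .e, .b, .c, .d, .h, .i, .f, .e, .d, .h, .j, .g, .f, .e, .d, .c, .d, .e, .f, .g, .j, .h, .d, .e, .f, .i, .h, .d, .c, .b, .e, .d, .p4, .d, .e, .b, .c, .d, .h, .i, .f, .e, .d, .h, .j, .g, .f, .e, .d, .c, .d, .e, .f, .g, .j, .h, .d, .e, .f, .i, .h, .d, .c, .b, .e, .d]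
/-- defining word -/
def wd_6 : List X := [.n5, .b, .c, .d, .h, .i, .d, .e, .c, .d, .h, .f, .e, .d, .c, .b, .a, .b, .c, .d, .e, .f, .h, .d, .c, .e, .d, .i, .h, .d, .c, .b, .f, .d, .e, .c, .d, .h, .i, .b, .c, .d, .h, .f, .e, .d, .c, .b, .a, .b, .c, .d, .e, .f, .h, .d, .c, .b, .i, .h, .d, .c, .e, .d, .f, .n1, .n5, .p1, .f, .d, .e, .c, .d, .h, .i, .b, .c, .d, .h, .f, .e, .d, .c, .b, .a, .b, .c, .d, .e, .f, .h, .d, .c, .b, .i, .h, .d, .c, .e, .d, .f, .b, .c, .d, .h, .i, .d, .e, .c, .d, .h, .f, .e, .d, .c, .b, .a, .b, .c, .d, .e, .f, .h, .d, .c, .e, .d, .i, .h, .d, .c, .b, .p5, .b, .c, .d, .h, .i, .d, .e, .c, .d, .h, .f, .e, .d, .c, .b, .a, .b, .c, .d, .e, .f, .h, .d, .c, .e, .d, .i, .h, .d, .c, .b, .f, .d, .e, .c, .d, .h, .i, .b, .c, .d, .h, .f, .e, .d, .c, .b, .a, .b, .c, .d, .e, .f, .h, .d, .c, .b, .i, .h, .d, .c, .e, .d, .f, .n1, .p5, .p1, .f, .d, .e, .c, .d, .h, .i, .b,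 .c, .d, .h, .f, .e, .d, .c, .b, .a, .b, .c, .d, .e, .f, .h, .d, .c, .b, .i, .h, .d, .c, .e, .d, .f, .b, .c, .d, .h, .i, .d, .e, .c, .d, .h, .f, .e, .d, .c, .b, .a, .b, .c, .d, .e, .f, .h, .d, .c, .e, .d, .i, .h, .d, .c, .b]
/-- defining word -/
def wd_7 : List X := [.n6, .j, .g, .f, .e, .d, .h, .i, .d, .e, .c, .d, .h, .f, .e, .d, .c, .b, .c, .d, .e, .f, .h, .d, .c, .e, .d, .i, .h, .d, .e, .f, .g, .j, .f, .d, .e, .c, .d, .h, .i, .b, .c, .d, .h, .f, .e, .d, .c, .b, .a, .b, .c, .d, .e, .f, .h, .d, .c, .b, .i, .h, .d, .c, .e, .d, .f, .n6, .f, .d, .e, .c, .d, .h, .i, .b, .c, .d, .h, .f, .e, .d, .c, .b, .a, .b, .c, .d, .e, .f, .h, .d, .c, .b, .i, .h, .d, .c, .e, .d, .f, .j, .g, .f, .e, .d, .h, .i, .d, .e, .c, .d, .h, .f, .e, .d, .c, .b, .c, .d, .e, .f, .h, .d, .c, .e, .d, .i, .h, .d, .e, .f, .g, .j, .p6, .j, .g, .f, .e, .d, .h, .i, .d, .e, .c, .d, .h, .f, .e, .d, .c, .b, .c,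 .d, .e, .f, .h, .d, .c, .e, .d, .i, .h, .d, .e, .f, .g, .j, .f, .d, .e, .c, .d, .h, .i, .b, .c, .d, .h, .f, .e, .d, .c, .b, .a, .b, .c, .d, .e, .f, .h, .d, .c, .b, .i, .h, .d, .c, .e, .d, .f, .p6, .f, .d, .e, .c, .d, .h, .i, .b, .c, .d, .h, .f, .e, .d, .c, .b, .a, .b, .c, .d, .e, .f, .h, .d, .c, .b, .i, .h, .d, .c, .e, .d, .f, .j, .g, .f, .e, .d, .h, .i, .d, .e, .c, .d, .h, .f, .e, .d, .c, .b, .c, .d, .e, .f, .h, .d, .c, .e, .d, .i, .h, .d, .e, .f, .g, .j]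
/-- defining word -/
def wd_8 : List X := [.n7, .n0, .i, .e, .f, .d, .e, .c, .d, .h, .j, .g, .f, .e, .d, .c, .b, .c, .d, .e, .f, .g, .j, .h, .d, .c, .e, .d, .f, .e, .i, .n7, .i, .e, .f, .d, .e, .c, .d, .h, .j, .g, .f, .e, .d, .c, .b, .c, .d, .e, .f, .g, .j, .h, .d, .c, .e, .d, .f, .e, .i, .p0, .p7, .n0, .i, .e, .f, .d, .e, .c, .d, .h, .j, .g, .f, .e, .d, .c, .b, .c, .d, .e, .f, .g, .j, .h, .d, .c, .e, .d, .f, .e, .i, .p7, .i, .e, .f, .d, .e, .c, .d, .h, .j, .g, .f, .e, .d, .c, .b, .c, .d, .e, .f, .g, .j, .h, .d, .c, .e, .d, .f, .e, .i, .p0]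
/-- defining word -/
def wd_9 : List X := [.n8, .n0, .n1, .n8, .p1, .p0, .p8, .n0, .n1, .p8, .p1, .p0]
end H94.F23
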